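import Mathlib
import Cfsg.Prelude.Def_Involutions
import Cfsg.Agent.Lib.Involutions.StronglyEmbedded

/-!
Strongly embedded subgroups: involutions acting on the coset space, the involutions interchanging
two cosets and the transitivity of the two point stabiliser on involutions.
-/

set_option autoImplicit false

namespace CfsgLib.StrongEmbedding

open Cfsg (IsStronglyEmbedded)
open CfsgLib.Involutions

variable {G : Type*} [Group G] [Finite G] {H : Subgroup G}

theorem smul_self_of_involution {α : Type*} [MulAction G α] {r : G} (hr : orderOf r = 2) (x : α) :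
    r • r • x = x := by
  rw [smul_smul, mul_self_eq_one hr, one_smul]

theorem mem_iff_smul_base {g : G} : g ∈ H ↔ g • ((1 : G) : G ⧸ H) = ((1 : G) : G ⧸ H) := by
  rw [smul_coset_eq_iff]; simp

/-- An involution fixes at most one coset. -/
theorem fixed_unique (hH : IsStronglyEmbedded H) {t : G} (ht : orderOf t = 2) {x y : G ⧸ H}
    (hx : t • x = x) (hy : t • y = y) : x = y := by
  obtain ⟨g, rfl⟩ := QuotientGroup.mk_surjective x
  obtain ⟨g', rfl⟩ := QuotientGroup.mk_surjective y
  rw [smul_coset_eq_iff] at hx hy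
  rw [QuotientGroup.eq]
  refine se_mem_of_conj_mem hH hx (by simpa using (orderOf_conj_eq g⁻¹ t).trans ht) ?_
  simpa [mul_assoc] using hy

theorem exists_involution_notMem (hH : IsStronglyEmbedded H) :
    ∃ u : G, orderOf u = 2 ∧ u ∉ H := by
  obtain ⟨g, hg⟩ : ∃ g, g ∉ H := by
    by_contra hcon
    exact hH.1 ((Subgroup.eq_top_iff' H).2 (fun g => by_contra fun hg => hcon ⟨g, hg⟩))
  obtain ⟨t, htH, ht⟩ := exists_involution_of_even_card H hH.2.1
  refine ⟨g⁻¹ * t * g, by simpa using (orderOf_conj_eq g⁻¹ t).trans ht, fun h => hg ?_⟩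
  exact se_mem_of_conj_mem hH htH ht h

/-- The product of an involution of `H` and one outside `H` has odd order. -/
theorem odd_order_mul (hH : IsStronglyEmbedded H) {s u : G} (hs : orderOf s = 2) (hsH : s ∈ H)
    (hu : orderOf u = 2) (huH : u ∉ H) : Odd (orderOf (s * u)) := by
  by_contra ho
  obtain ⟨hz, hzs, hzu⟩ := central_involution hs hu (Nat.not_odd_iff_even.1 ho)
  set z := (s * u) ^ (orderOf (s * u) / 2)
  have hzH : z ∈ H := se_centralizer_le hH hsH hs (Subgroup.mem_centralizer_singleton_iff.2 hzs.eq)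
  exact huH (se_centralizer_le hH hzH hz (Subgroup.mem_centralizer_singleton_iff.2 hzu.eq.symm))

/-- All involutions are conjugate. -/
theorem isConj_involutions (hH : IsStronglyEmbedded H) {a b : G} (ha : orderOf a = 2)
    (hb : orderOf b = 2) : IsConj a b := by
  obtain ⟨u, hu, huH⟩ := exists_involution_notMem hH
  obtain ⟨t, htH, ht⟩ := exists_involution_of_even_card H hH.2.1
  have key : ∀ c : G, orderOf c = 2 → IsConj c t := by
    intro c hc
    by_cases hcH : c ∈ H
    · exact (isConj_of_odd_order hc hu (odd_order_mul hH hc hcH hu huH)).trans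
        (isConj_of_odd_order ht hu (odd_order_mul hH ht htH hu huH)).symm
    · exact (isConj_of_odd_order ht hc (odd_order_mul hH ht htH hc hcH)).symm
  exact (key a ha).trans (key b hb).symm

/-- Every involution fixes a coset. -/
theorem exists_fixed (hH : IsStronglyEmbedded H) {t : G} (ht : orderOf t = 2) :
    ∃ x : G ⧸ H, t • x = x := by
  obtain ⟨s, hsH, hs⟩ := exists_involution_of_even_card H hH.2.1
  obtain ⟨c, hc⟩ := isConj_iff.1 (isConj_involutions hH hs ht)
  refine ⟨(c : G ⧸ H), smul_coset_eq_iff.2 ?_⟩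
  rw [← hc]
  simpa [mul_assoc] using hsH

theorem conj_smul_fixed {α : Type*} [MulAction G α] {t g : G} {x : α} (hx : t • x = x) :
    (g * t * g⁻¹) • (g • x) = g • x := by
  rw [smul_smul, inv_mul_cancel_right, mul_smul, hx]

/-- The involution in the middle: it conjugates `s` to `t` and interchanges their fixed cosets. -/
theorem exists_mid (hH : IsStronglyEmbedded H) {s t : G} (hs : orderOf s = 2) (ht : orderOf t = 2)
    {x y : G ⧸ H} (hx : s • x = x) (hy : t • y = y) (hxy : x ≠ y) :
    ∃ r : G, orderOf r = 2 ∧ r * s * r⁻¹ = t ∧ r • x = y := by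
  obtain ⟨g, rfl⟩ := QuotientGroup.mk_surjective x
  have hxo := smul_coset_eq_iff.1 hx
  have hodd : Odd (orderOf (s * t)) := by
    have h := odd_order_mul hH (s := g⁻¹ * s * g) (u := g⁻¹ * t * g)
      (by simpa using (orderOf_conj_eq g⁻¹ s).trans hs) hxo
      (by simpa using (orderOf_conj_eq g⁻¹ t).trans ht)
      (fun h => hxy (fixed_unique hH ht (smul_coset_eq_iff.2 h) hy))
    rw [show g⁻¹ * s * g * (g⁻¹ * t * g) = g⁻¹ * (s * t) * (g⁻¹)⁻¹ by group, orderOf_conj_eq] at h
    exact h
  obtain ⟨m, hm⟩ := hodd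
  set a := s * t with ha
  refine ⟨a ^ (m : ℤ) * s, orderOf_zpow_mul_involution hs ht _, ?_, ?_⟩
  · have h1 : a ^ (m : ℤ) * s * s * (a ^ (m : ℤ) * s)⁻¹ = a ^ (m : ℤ) * s * (a ^ (m : ℤ))⁻¹ := by
      rw [mul_inv_rev, inv_eq_self_of_involution hs, mul_assoc _ s s, mul_self_eq_one hs, mul_one,
        ← mul_assoc]
    have h2 := conj_by_zpow hs ht (m : ℤ) 0
    rw [zpow_zero, one_mul, ← ha, add_zero] at h2
    rw [h1, h2]
    have h3 : a ^ (2 * (m : ℤ)) = a⁻¹ := by
      apply eq_inv_of_mul_eq_one_left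
      have := pow_orderOf_eq_one a
      rw [hm, pow_succ] at this
      exact_mod_cast this
    rw [h3, ha, mul_inv_rev, inv_eq_self_of_involution hs, inv_eq_self_of_involution ht, mul_assoc,
      mul_self_eq_one hs, mul_one]
  · apply fixed_unique hH ht ?_ hy
    have h2 : a ^ (m : ℤ) * s * s * (a ^ (m : ℤ) * s)⁻¹ = t := by
      have h2 := conj_by_zpow hs ht (m : ℤ) 0
      rw [zpow_zero, one_mul, ← ha, add_zero] at h2
      rw [mul_inv_rev, inv_eq_self_of_involution hs, mul_assoc _ s s, mul_self_eq_one hs, mul_one,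
        ← mul_assoc, h2]
      have h3 : a ^ (2 * (m : ℤ)) = a⁻¹ := by
        apply eq_inv_of_mul_eq_one_left
        have := pow_orderOf_eq_one a
        rw [hm, pow_succ] at this
        exact_mod_cast this
      rw [h3, ha, mul_inv_rev, inv_eq_self_of_involution hs, inv_eq_self_of_involution ht, mul_assoc,
        mul_self_eq_one hs, mul_one]
    have h4 := conj_smul_fixed (g := a ^ (m : ℤ) * s) hx
    rwa [h2] at h4

/-- The number of involutions fixing a coset does not depend on the coset. -/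
theorem card_fixing_eq (H : Subgroup G) (x : G ⧸ H) :
    Nat.card {t : G // orderOf t = 2 ∧ t • x = x} = Nat.card {t : G // orderOf t = 2 ∧ t ∈ H} := by
  obtain ⟨g, rfl⟩ := QuotientGroup.mk_surjective x
  refine Nat.card_congr ((MulAut.conj g⁻¹).toEquiv.subtypeEquiv fun t => ?_)
  rw [show (MulAut.conj g⁻¹).toEquiv t = g⁻¹ * t * (g⁻¹)⁻¹ from rfl, orderOf_conj_eq, inv_inv,
    smul_coset_eq_iff]

theorem card_involutions (hH : IsStronglyEmbedded H) :
    Nat.card {t : G // orderOf t = 2} = H.index * Nat.card {t : G // orderOf t = 2 ∧ t ∈ H} := by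
  classical
  have := Fintype.ofFinite (G ⧸ H)
  let e : (Σ x : G ⧸ H, {t : G // orderOf t = 2 ∧ t • x = x}) ≃ {t : G // orderOf t = 2} :=
    Equiv.ofBijective (fun p => ⟨p.2.1, p.2.2.1⟩) ⟨by
      rintro ⟨x, t, ht, hx⟩ ⟨y, t', ht', hy⟩ h
      obtain rfl : t = t' := congrArg Subtype.val h
      obtain rfl := fixed_unique hH ht hx hy
      rfl, fun ⟨t, ht⟩ => by
      obtain ⟨x, hx⟩ := exists_fixed hH ht
      exact ⟨⟨x, t, ht, hx⟩, rfl⟩⟩
  rw [← Nat.card_congr e, Nat.card_sigma, Finset.sum_congr rfl (fun x _ => card_fixing_eq H x),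
    Finset.sum_const, Finset.card_univ, Subgroup.index, Nat.card_eq_fintype_card (α := G ⧸ H),
    smul_eq_mul]

/-- Conjugating a fixed involution of `y` by the involutions interchanging `x` and `y`. -/
def swapMap {x y : G ⧸ H} {t : G} (ht : orderOf t = 2) (hy : t • y = y)
    (r : {i : G // orderOf i = 2 ∧ i • x = y}) : {s : G // orderOf s = 2 ∧ s • x = x} :=
  ⟨r.1 * t * r.1⁻¹, by rw [orderOf_conj_eq]; exact ht, by
    have h1 : r.1 • y = x :=
      (congrArg (r.1 • ·) r.2.2).symm.trans (smul_self_of_involution r.2.1 x)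
    have h2 := conj_smul_fixed (g := r.1) hy
    rwa [h1] at h2⟩

theorem swapMap_surjective (hH : IsStronglyEmbedded H) {x y : G ⧸ H} (hxy : x ≠ y) {t : G}
    (ht : orderOf t = 2) (hy : t • y = y) : Function.Surjective (swapMap (x := x) ht hy) := by
  rintro ⟨s, hs, hx⟩
  obtain ⟨r, hr, hrs, hrx⟩ := exists_mid hH hs ht hx hy hxy
  refine ⟨⟨r, hr, hrx⟩, Subtype.ext ?_⟩
  show r * t * r⁻¹ = s
  have h2 : r * r = 1 := mul_self_eq_one hr
  rw [← hrs, inv_eq_self_of_involution hr]
  calc r * (r * s * r) * r = (r * r) * s * (r * r) := by group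
    _ = s := by rw [h2, one_mul, mul_one]

theorem exists_involution_fixing (hH : IsStronglyEmbedded H) (x : G ⧸ H) :
    ∃ t : G, orderOf t = 2 ∧ t • x = x := by
  obtain ⟨g, rfl⟩ := QuotientGroup.mk_surjective x
  obtain ⟨s, hsH, hs⟩ := exists_involution_of_even_card H hH.2.1
  refine ⟨g * s * g⁻¹, by rw [orderOf_conj_eq, hs], smul_coset_eq_iff.2 ?_⟩
  simpa [mul_assoc] using hsH

/-- The number of involutions interchanging two cosets. -/
theorem card_swapping (hH : IsStronglyEmbedded H) {x y : G ⧸ H} (hxy : x ≠ y) :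
    Nat.card {i : G // orderOf i = 2 ∧ i • x = y} = Nat.card {t : G // orderOf t = 2 ∧ t ∈ H} := by
  classical
  set k := Nat.card {t : G // orderOf t = 2 ∧ t ∈ H} with hk
  have := Fintype.ofFinite (G ⧸ H)
  let e : (Σ z : G ⧸ H, {i : G // orderOf i = 2 ∧ i • x = z}) ≃ {t : G // orderOf t = 2} :=
    Equiv.ofBijective (fun p => ⟨p.2.1, p.2.2.1⟩) ⟨by
      rintro ⟨z, t, ht, hz⟩ ⟨z', t', ht', hz'⟩ h
      obtain rfl : t = t' := congrArg Subtype.val h
      obtain rfl : z = z' := hz.symm.trans hz'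
      rfl, fun ⟨t, ht⟩ => ⟨⟨t • x, t, ht, rfl⟩, rfl⟩⟩
  have hge : ∀ z ∈ (Finset.univ : Finset (G ⧸ H)),
      k ≤ Nat.card {i : G // orderOf i = 2 ∧ i • x = z} := by
    intro z _
    rcases eq_or_ne x z with rfl | hz
    · exact (card_fixing_eq H x).ge
    · obtain ⟨t, ht, htz⟩ := exists_involution_fixing hH z
      calc k = Nat.card {s : G // orderOf s = 2 ∧ s • x = x} := (card_fixing_eq H x).symm
        _ ≤ _ := Nat.card_le_card_of_surjective _ (swapMap_surjective hH hz ht htz)
  have hsum : ∑ z : G ⧸ H, k = ∑ z : G ⧸ H, Nat.card {i : G // orderOf i = 2 ∧ i • x = z} := by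
    have h2 : ∑ z : G ⧸ H, Nat.card {i : G // orderOf i = 2 ∧ i • x = z} = H.index * k := by
      rw [← Nat.card_sigma, Nat.card_congr e, card_involutions hH]
    rw [h2, Finset.sum_const, Finset.card_univ, Subgroup.index,
      Nat.card_eq_fintype_card (α := G ⧸ H), smul_eq_mul]
  exact ((Finset.sum_eq_sum_iff_of_le hge).1 hsum y (Finset.mem_univ _)).symm

/-- The map from the involutions interchanging `x` and `y` to those fixing `x` is bijective. -/
theorem swapMap_bijective (hH : IsStronglyEmbedded H) {x y : G ⧸ H} (hxy : x ≠ y) {t : G}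
    (ht : orderOf t = 2) (hy : t • y = y) : Function.Bijective (swapMap (x := x) ht hy) :=
  (swapMap_surjective hH hxy ht hy).bijective_of_nat_card_le
    (by rw [card_swapping hH hxy, card_fixing_eq])

/-- The stabiliser of two cosets is transitive on the involutions fixing the first one. -/
theorem two_point_transitive (hH : IsStronglyEmbedded H) {x y : G ⧸ H} (hxy : x ≠ y) {s s' : G}
    (hs : orderOf s = 2) (hsx : s • x = x) (hs' : orderOf s' = 2) (hs'x : s' • x = x) :
    ∃ d : G, d • x = x ∧ d • y = y ∧ d * s * d⁻¹ = s' := by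
  obtain ⟨t, ht, hty⟩ := exists_involution_fixing hH y
  obtain ⟨r, hr, hrs, hrx⟩ := exists_mid hH hs ht hsx hty hxy
  obtain ⟨r', hr', hrs', hr'x⟩ := exists_mid hH hs' ht hs'x hty hxy
  have hry : r • y = x := by rw [← hrx, smul_self_of_involution hr]
  have hr'y : r' • y = x := by rw [← hr'x, smul_self_of_involution hr']
  refine ⟨r' * r, by rw [mul_smul, hrx, hr'y], by rw [mul_smul, hry, hr'x], ?_⟩
  calc r' * r * s * (r' * r)⁻¹ = r' * (r * s * r⁻¹) * r'⁻¹ := by group
    _ = r' * (r' * s' * r'⁻¹) * r'⁻¹ := by rw [hrs, hrs']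
    _ = (r' * r') * s' * (r' * r')⁻¹ := by group
    _ = s' := by rw [mul_self_eq_one hr']; simp

theorem mem_inf_map_conj_iff {u : G} {d : G} :
    d ∈ H ⊓ H.map (MulAut.conj u).toMonoidHom ↔
      d • ((1 : G) : G ⧸ H) = ((1 : G) : G ⧸ H) ∧ d • ((u : G) : G ⧸ H) = ((u : G) : G ⧸ H) := by
  rw [Subgroup.mem_inf, mem_map_conj_iff, mem_iff_smul_base, ← smul_coset_eq_iff]

end CfsgLib.StrongEmbedding
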