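import Mathlib
import Cfsg.Agent.Lib.StrongEmbedding.Swap

/-!
Groups in which the centralizers of involutions are elementary abelian 2-groups and a Sylow
2-subgroup is neither cyclic nor normal.
-/

set_option autoImplicit false

namespace CfsgLib.StrongEmbedding.ElementaryCentralizers

open Cfsg (IsStronglyEmbedded)
open CfsgLib.Involutions CfsgLib.StrongEmbedding

variable {G : Type*} [Group G]

/-- The standing hypotheses. -/
structure Hyp (T : Sylow 2 G) : Prop where
  not_cyclic : ¬ IsCyclic (T : Subgroup G)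
  not_normal : ¬ (T : Subgroup G).Normal
  elem : ∀ t : G, orderOf t = 2 → IsMulCommutative (Subgroup.centralizer ({t} : Set G)) ∧
    ∀ c ∈ Subgroup.centralizer ({t} : Set G), c ^ 2 = 1

/-- The normalizer of the Sylow 2-subgroup. -/
abbrev normT (T : Sylow 2 G) : Subgroup G := Subgroup.normalizer ((T : Subgroup G) : Set G)

/-- The base point of the coset space. -/
abbrev base (T : Sylow 2 G) : G ⧸ normT T := ((1 : G) : G ⧸ normT T)

/-- The stabiliser of the base point and of `y`. -/
abbrev twoStab (T : Sylow 2 G) (y : G ⧸ normT T) : Subgroup G :=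
  MulAction.stabilizer G (base T) ⊓ MulAction.stabilizer G y

variable {T : Sylow 2 G} [Finite G]

omit [Finite G] in
theorem mem_twoStab {y : G ⧸ normT T} {d : G} :
    d ∈ twoStab T y ↔ d • base T = base T ∧ d • y = y := Iff.rfl

theorem mem_normT_iff {g : G} : g ∈ normT T ↔ g • base T = base T := mem_iff_smul_base

omit [Finite G] in
theorem nontrivial_T (h : Hyp T) : Nontrivial (T : Subgroup G) := by
  by_contra hcon
  rw [not_nontrivial_iff_subsingleton] at hcon
  exact h.not_cyclic isCyclic_of_subsingleton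

theorem exists_central_involution (h : Hyp T) :
    ∃ z ∈ (T : Subgroup G), orderOf z = 2 ∧ ∀ x ∈ (T : Subgroup G), Commute z x := by
  have := nontrivial_T h
  have : Fact (Nat.Prime 2) := ⟨Nat.prime_two⟩
  have h1 : Nontrivial (Subgroup.center (T : Subgroup G)) := IsPGroup.center_nontrivial T.isPGroup'
  obtain ⟨j, hj⟩ := (T.isPGroup'.to_subgroup (Subgroup.center (T : Subgroup G))).exists_card_eq
  have h2 : 2 ∣ Nat.card (Subgroup.center (T : Subgroup G)) := by
    rcases j with _ | j
    · have := Finite.one_lt_card (α := Subgroup.center (T : Subgroup G))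
      omega
    · exact hj ▸ dvd_pow_self 2 j.succ_ne_zero
  obtain ⟨z, hz⟩ := exists_prime_orderOf_dvd_card' 2 h2
  refine ⟨((z : (T : Subgroup G)) : G), (z : (T : Subgroup G)).2, ?_, fun x hx => ?_⟩
  · rw [Subgroup.orderOf_coe, Subgroup.orderOf_coe, hz]
  · exact congrArg Subtype.val (Subgroup.mem_center_iff.1 z.2 ⟨x, hx⟩).symm

theorem exp_T (h : Hyp T) {x : G} (hx : x ∈ (T : Subgroup G)) : x ^ 2 = 1 := by
  obtain ⟨z, -, hz, hzc⟩ := exists_central_involution h
  exact (h.elem z hz).2 x (Subgroup.mem_centralizer_singleton_iff.2 (hzc x hx).eq.symm)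

theorem comm_T (h : Hyp T) {x y : G} (hx : x ∈ (T : Subgroup G)) (hy : y ∈ (T : Subgroup G)) :
    Commute x y := by
  obtain ⟨z, -, hz, hzc⟩ := exists_central_involution h
  exact congrArg Subtype.val ((h.elem z hz).1.is_comm.comm
    ⟨x, Subgroup.mem_centralizer_singleton_iff.2 (hzc x hx).eq.symm⟩
    ⟨y, Subgroup.mem_centralizer_singleton_iff.2 (hzc y hy).eq.symm⟩)

theorem orderOf_of_mem (h : Hyp T) {x : G} (hx : x ∈ (T : Subgroup G)) (hx1 : x ≠ 1) :
    orderOf x = 2 :=
  orderOf_eq_prime (exp_T h hx) hx1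

theorem centralizer_eq (h : Hyp T) {t : G} (ht : t ∈ (T : Subgroup G)) (ht2 : orderOf t = 2) :
    Subgroup.centralizer ({t} : Set G) = (T : Subgroup G) := by
  refine T.is_maximal' (fun c => ⟨1, ?_⟩) (fun x hx => ?_)
  · exact Subtype.ext (by simpa using (h.elem t ht2).2 c c.2)
  · exact Subgroup.mem_centralizer_singleton_iff.2 (comm_T h hx ht).eq

theorem commute_mem (h : Hyp T) {t c : G} (ht : t ∈ (T : Subgroup G)) (ht1 : t ≠ 1)
    (hc : Commute c t) : c ∈ (T : Subgroup G) := by
  rw [← centralizer_eq h ht (orderOf_of_mem h ht ht1)]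
  exact Subgroup.mem_centralizer_singleton_iff.2 hc.eq

theorem involution_mem_T {s : G} (hs : orderOf s = 2) (hsH : s ∈ normT T) :
    s ∈ (T : Subgroup G) := by
  have : Fact (Nat.Prime 2) := ⟨Nat.prime_two⟩
  have hP : IsPGroup 2 (Subgroup.zpowers s) :=
    IsPGroup.of_card (n := 1) (by rw [Nat.card_zpowers, hs, pow_one])
  have h1 : s ∈ Subgroup.zpowers s ⊓ normT T := ⟨Subgroup.mem_zpowers s, hsH⟩
  have h2 : Subgroup.zpowers s ⊓ normT T = Subgroup.zpowers s ⊓ (T : Subgroup G) :=
    hP.inf_normalizer_sylow T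
  rw [h2] at h1
  exact h1.2

theorem isStronglyEmbedded (h : Hyp T) : IsStronglyEmbedded (normT T) := by
  obtain ⟨z, hzT, hz, -⟩ := exists_central_involution h
  rw [isStronglyEmbedded_iff]
  refine ⟨fun htop => h.not_normal (Subgroup.normalizer_eq_top_iff.1 htop),
    even_card_of_involution_mem (Subgroup.le_normalizer hzT) hz, fun g hg t htH ht hs => hg ?_⟩
  have hso : orderOf (g⁻¹ * t * g) = 2 := by simpa using (orderOf_conj_eq g⁻¹ t).trans ht
  have hsT := involution_mem_T hso hs
  have htT := involution_mem_T ht htH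
  rw [Subgroup.mem_set_normalizer_iff'']
  intro x
  rw [SetLike.mem_coe, ← centralizer_eq h htT ht, SetLike.mem_coe,
    centralizer_eq h htT ht]
  conv_rhs => rw [← centralizer_eq h hsT hso]
  conv_lhs => rw [← centralizer_eq h htT ht]
  rw [Subgroup.mem_centralizer_singleton_iff, Subgroup.mem_centralizer_singleton_iff]
  constructor
  · intro e
    calc g⁻¹ * x * g * (g⁻¹ * t * g) = g⁻¹ * (x * t) * g := by group
      _ = g⁻¹ * t * g * (g⁻¹ * x * g) := by rw [e]; group
  · intro e
    calc x * t = g * (g⁻¹ * x * g * (g⁻¹ * t * g)) * g⁻¹ := by group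
      _ = t * x := by rw [e]; group

theorem card_inv (h : Hyp T) :
    Nat.card {t : G // orderOf t = 2 ∧ t ∈ normT T} = Nat.card (T : Subgroup G) - 1 := by
  classical
  have hR : Nat.card {x : (T : Subgroup G) // x ≠ 1} = Nat.card (T : Subgroup G) - 1 := by
    have := Fintype.ofFinite (T : Subgroup G)
    rw [Nat.card_eq_fintype_card, Nat.card_eq_fintype_card, Fintype.card_subtype_compl,
      Fintype.card_subtype_eq]
  rw [← hR]
  exact Nat.card_congr
    { toFun := fun t => ⟨⟨t.1, involution_mem_T t.2.1 t.2.2⟩, fun e =>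
        ne_one_of_involution t.2.1 (congrArg Subtype.val e)⟩
      invFun := fun x => ⟨x.1.1, orderOf_of_mem h x.1.2 (fun e => x.2 (Subtype.ext e)),
        Subgroup.le_normalizer x.1.2⟩
      left_inv := fun t => rfl
      right_inv := fun x => rfl }

theorem four_le_card (h : Hyp T) : 4 ≤ Nat.card (T : Subgroup G) := by
  have : Fact (Nat.Prime 2) := ⟨Nat.prime_two⟩
  obtain ⟨j, hj⟩ := T.isPGroup'.exists_card_eq
  rcases j with _ | _ | j
  · have := (Nat.card_eq_one_iff_unique (α := (T : Subgroup G)).1 (by rw [hj]; norm_num)).1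
    exact absurd isCyclic_of_subsingleton h.not_cyclic
  · exact absurd (isCyclic_of_prime_card (p := 2) (by simpa using hj)) h.not_cyclic
  · rw [hj]
    calc 4 = 2 ^ 2 := rfl
      _ ≤ _ := Nat.pow_le_pow_right (by norm_num) (by omega)

variable {y : G ⧸ normT T}

theorem twoStab_le : twoStab T y ≤ normT T := fun _ hd => mem_normT_iff.2 (mem_twoStab.1 hd).1

theorem twoStab_inf_T (h : Hyp T) (hy : y ≠ base T) {d : G} (hd : d ∈ twoStab T y)
    (hdT : d ∈ (T : Subgroup G)) : d = 1 := by
  by_contra h1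
  exact hy (fixed_unique (isStronglyEmbedded h) (orderOf_of_mem h hdT h1)
    (mem_twoStab.1 hd).1 (mem_twoStab.1 hd).2).symm

theorem odd_orderOf (h : Hyp T) (hy : y ≠ base T) {d : G} (hd : d ∈ twoStab T y) :
    Odd (orderOf d) := by
  by_contra ho
  have h2 := orderOf_pow_half (Nat.not_odd_iff_even.1 ho)
  exact ne_one_of_involution h2 (twoStab_inf_T h hy (pow_mem hd _)
    (involution_mem_T h2 (twoStab_le (pow_mem hd _))))

theorem card_twoStab (h : Hyp T) (hy : y ≠ base T) :
    Nat.card (twoStab T y) = Nat.card (T : Subgroup G) - 1 := by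
  rw [← card_inv h, ← card_fixing_eq (normT T) (base T)]
  obtain ⟨s, hs, hsx⟩ := exists_involution_fixing (isStronglyEmbedded h) (base T)
  apply Nat.card_congr
  refine Equiv.ofBijective (fun d => ⟨d.1 * s * d.1⁻¹, by rw [orderOf_conj_eq, hs], ?_⟩) ⟨?_, ?_⟩
  · have h1 := conj_smul_fixed (g := d.1) hsx
    rwa [(mem_twoStab.1 d.2).1] at h1
  · intro d e he
    have he' : d.1 * s * d.1⁻¹ = e.1 * s * e.1⁻¹ := congrArg Subtype.val he
    have hc : Commute (d.1⁻¹ * e.1) s := by
      show d.1⁻¹ * e.1 * s = s * (d.1⁻¹ * e.1)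
      calc d.1⁻¹ * e.1 * s = d.1⁻¹ * (e.1 * s * e.1⁻¹) * e.1 := by group
        _ = s * (d.1⁻¹ * e.1) := by rw [← he']; group
    have hT := commute_mem h (involution_mem_T hs (mem_normT_iff.2 hsx)) (ne_one_of_involution hs) hc
    have h1 := twoStab_inf_T h hy (mul_mem (inv_mem d.2) e.2) hT
    exact Subtype.ext (inv_mul_eq_one.1 h1)
  · rintro ⟨s', hs', hs'x⟩
    obtain ⟨d, hdx, hdy, hd⟩ := two_point_transitive (isStronglyEmbedded h) (Ne.symm hy) hs hsx hs' hs'x
    exact ⟨⟨d, mem_twoStab.2 ⟨hdx, hdy⟩⟩, Subtype.ext hd⟩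

theorem mul_swap_mem {i r : G} (hr : orderOf r = 2) (hi : orderOf i = 2) (hiy : i • base T = y)
    (hry : r • base T = y) : i * r ∈ twoStab T y := by
  have h1 : i • y = base T := by rw [← hiy, smul_self_of_involution hi]
  have h2 : r • y = base T := by rw [← hry, smul_self_of_involution hr]
  exact mem_twoStab.2 ⟨by rw [mul_smul, hry, h1], by rw [mul_smul, h2, hiy]⟩

theorem inverts (h : Hyp T) (hy : y ≠ base T) {r d : G} (hr : orderOf r = 2)
    (hry : r • base T = y) (hd : d ∈ twoStab T y) : r * d * r⁻¹ = d⁻¹ := by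
  let f : {i : G // orderOf i = 2 ∧ i • base T = y} → twoStab T y :=
    fun i => ⟨i.1 * r, mul_swap_mem hr i.2.1 i.2.2 hry⟩
  have hf : Function.Injective f := fun a b hab =>
    Subtype.ext (mul_right_cancel (congrArg Subtype.val hab))
  have hb : Function.Bijective f := hf.bijective_of_nat_card_le
    (by rw [card_twoStab h hy, ← card_inv h, card_swapping (isStronglyEmbedded h) (Ne.symm hy)])
  obtain ⟨i, hi⟩ := hb.2 ⟨d, hd⟩
  have hid : i.1 * r = d := congrArg Subtype.val hi
  rw [← hid, mul_inv_rev, inv_eq_self_of_involution hr, inv_eq_self_of_involution i.2.1, mul_assoc,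
    mul_assoc, mul_self_eq_one hr, mul_one]

theorem exists_swap (h : Hyp T) (hy : y ≠ base T) :
    ∃ r : G, orderOf r = 2 ∧ r • base T = y := by
  have h1 : 0 < Nat.card {i : G // orderOf i = 2 ∧ i • base T = y} := by
    rw [card_swapping (isStronglyEmbedded h) (Ne.symm hy), card_inv h]
    have := four_le_card h
    omega
  obtain ⟨⟨r, hr⟩⟩ := (Nat.card_pos_iff.1 h1).1
  exact ⟨r, hr⟩

theorem commute_twoStab (h : Hyp T) (hy : y ≠ base T) {d e : G} (hd : d ∈ twoStab T y)
    (he : e ∈ twoStab T y) : Commute d e := by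
  obtain ⟨r, hr, hry⟩ := exists_swap h hy
  have h1 := inverts h hy hr hry (mul_mem hd he)
  have h2 : r * (d * e) * r⁻¹ = d⁻¹ * e⁻¹ := by
    rw [← inverts h hy hr hry hd, ← inverts h hy hr hry he]; group
  rw [h2, ← mul_inv_rev] at h1
  exact (inv_injective h1).symm

theorem decomp (h : Hyp T) (hy : y ≠ base T) {g : G} (hg : g ∈ normT T) :
    ∃ d ∈ twoStab T y, ∃ t ∈ (T : Subgroup G), g = d * t := by
  obtain ⟨s, hs, hsx⟩ := exists_involution_fixing (isStronglyEmbedded h) (base T)
  have hsT := involution_mem_T hs (mem_normT_iff.2 hsx)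
  have h1 := conj_smul_fixed (g := g) hsx
  rw [mem_normT_iff.1 hg] at h1
  obtain ⟨d, hdx, hdy, hd⟩ := two_point_transitive (isStronglyEmbedded h) (Ne.symm hy) hs hsx
    (by rw [orderOf_conj_eq, hs]) h1
  refine ⟨d, mem_twoStab.2 ⟨hdx, hdy⟩, d⁻¹ * g,
    commute_mem h hsT (ne_one_of_involution hs) ?_, by group⟩
  show d⁻¹ * g * s = s * (d⁻¹ * g)
  calc d⁻¹ * g * s = d⁻¹ * (g * s * g⁻¹) * g := by group
    _ = s * (d⁻¹ * g) := by rw [← hd]; group

theorem eq_mem_twoStab_of_commute (h : Hyp T) (hy : y ≠ base T) {x c : G} (hx : x ∈ twoStab T y)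
    (hx1 : x ≠ 1) (hc : c • base T = base T) (hcx : Commute c x) : c ∈ twoStab T y := by
  obtain ⟨d, hd, t, ht, rfl⟩ := decomp h hy (mem_normT_iff.2 hc)
  by_cases ht1 : t = 1
  · simpa [ht1] using hd
  · exfalso
    have h1 : Commute t x := by
      have := (commute_twoStab h hy hd hx).inv_left.mul_left hcx
      simpa using this
    exact hx1 (twoStab_inf_T h hy hx (commute_mem h ht ht1 h1.symm))

/-- An element inverted by a swapping involution: its centralizer is inverted as well. -/
theorem inverts_centralizer (h : Hyp T) (hy : y ≠ base T) {x r c : G} (hx : x ∈ twoStab T y)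
    (hx1 : x ≠ 1) (hr : orderOf r = 2) (hrx : r * x * r⁻¹ = x⁻¹) (hc : Commute c x) :
    r * c * r⁻¹ = c⁻¹ := by
  let A := Subgroup.centralizer ({x} : Set G)
  have hA : ∀ b : G, b ∈ A ↔ Commute b x := fun b => Subgroup.mem_centralizer_singleton_iff
  have hno : ∀ b ∈ A, orderOf b ≠ 2 := by
    intro b hb hb2
    obtain ⟨s, hs, hsx⟩ := exists_involution_fixing (isStronglyEmbedded h) (base T)
    have hsq := (h.elem b hb2).2 x (Subgroup.mem_centralizer_singleton_iff.2 ((hA b).1 hb).eq.symm)
    have h2 := orderOf_eq_prime hsq hx1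
    have h3 := odd_orderOf h hy hx
    rw [h2] at h3
    exact Nat.not_odd_iff_even.2 even_two h3
  have hmap : ∀ b ∈ A, r * b * r⁻¹ ∈ A := by
    intro b hb
    rw [hA] at hb ⊢
    have h1 : Commute (r * b * r⁻¹) (r * x * r⁻¹) := hb.map (MulAut.conj r).toMonoidHom
    rw [hrx] at h1
    simpa using h1.inv_right
  let φ : A →* A :=
    { toFun := fun b => ⟨r * b * r⁻¹, hmap b b.2⟩
      map_one' := Subtype.ext (by simp)
      map_mul' := fun a b => Subtype.ext (by simp [mul_assoc]) }
  have hfpf : MonoidHom.FixedPointFree φ := by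
    intro b hb
    have hb' : r * (b : G) * r⁻¹ = b := congrArg Subtype.val hb
    have hsq : (b : G) ^ 2 = 1 := (h.elem r hr).2 b
      (Subgroup.mem_centralizer_singleton_iff.2 (mul_inv_eq_iff_eq_mul.1 hb').symm)
    by_contra hb1
    exact hno b b.2 (orderOf_eq_prime hsq (fun e => hb1 (Subtype.ext e)))
  have hinv : Function.Involutive φ := by
    intro b
    apply Subtype.ext
    show r * (r * (b : G) * r⁻¹) * r⁻¹ = b
    calc r * (r * (b : G) * r⁻¹) * r⁻¹ = (r * r) * b * (r * r)⁻¹ := by group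
      _ = b := by rw [mul_self_eq_one hr]; simp
  have := congrFun (hfpf.coe_eq_inv_of_involutive hinv) ⟨c, (hA c).2 hc⟩
  exact congrArg Subtype.val this

/-- A nontrivial element of a two point stabiliser fixes only these two points. -/
theorem fixed_pair (h : Hyp T) (hy : y ≠ base T) {x : G} (hx : x ∈ twoStab T y) (hx1 : x ≠ 1)
    {z : G ⧸ normT T} (hz : x • z = z) : z = base T ∨ z = y := by
  classical
  set o := base T with ho
  have hxo : x • o = o := (mem_twoStab.1 hx).1
  obtain ⟨r, hr, hry⟩ := exists_swap h hy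
  have hrx := inverts h hy hr hry hx
  let A := Subgroup.centralizer ({x} : Set G)
  have hA : ∀ b : G, b ∈ A ↔ Commute b x := fun b => Subgroup.mem_centralizer_singleton_iff
  have hsw : ∀ w : G ⧸ normT T, w ≠ o → x • w = w → ∀ i : G, orderOf i = 2 → i • o = w →
      i * x * i⁻¹ = x⁻¹ := fun w hw hxw i hi hiw => inverts h hw hi hiw (mem_twoStab.2 ⟨hxo, hxw⟩)
  let Φ := {w : G ⧸ normT T // w ≠ o ∧ x • w = w}
  let P := Σ w : Φ, {i : G // orderOf i = 2 ∧ i • o = w.1}
  -- the involutions moving `o` inside the fixed set correspond to the centralizer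
  let f : P → A := fun p => ⟨p.2.1 * r, (hA _).2 (by
    have h1 := hsw p.1.1 p.1.2.1 p.1.2.2 p.2.1 p.2.2.1 p.2.2.2
    show p.2.1 * r * x = x * (p.2.1 * r)
    calc p.2.1 * r * x = p.2.1 * (r * x * r⁻¹) * r := by group
      _ = p.2.1 * x⁻¹ * p.2.1⁻¹ * p.2.1 * r := by rw [hrx]; group
      _ = (p.2.1 * x * p.2.1⁻¹)⁻¹ * (p.2.1 * r) := by group
      _ = x * (p.2.1 * r) := by rw [h1, inv_inv])⟩
  have hf : Function.Bijective f := by
    refine ⟨?_, ?_⟩
    · rintro ⟨⟨w, hw⟩, i, hi, hiw⟩ ⟨⟨w', hw'⟩, i', hi', hiw'⟩ e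
      obtain rfl : i = i' := mul_right_cancel (congrArg Subtype.val e)
      obtain rfl : w = w' := hiw.symm.trans hiw'
      rfl
    · rintro ⟨c, hc⟩
      rw [hA] at hc
      have hcr : r * c * r⁻¹ = c⁻¹ := inverts_centralizer h hy hx hx1 hr hrx hc
      have hiinv : c * r * x * (c * r)⁻¹ = x⁻¹ := by
        calc c * r * x * (c * r)⁻¹ = c * (r * x * r⁻¹) * c⁻¹ := by group
          _ = x⁻¹ := by rw [hrx]; exact mul_inv_eq_iff_eq_mul.2 hc.inv_right.eq
      have hi : orderOf (c * r) = 2 := by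
        apply orderOf_eq_prime
        · rw [pow_two]
          calc c * r * (c * r) = c * (r * c * r⁻¹) * (r * r) := by group
            _ = 1 := by rw [hcr, mul_self_eq_one hr]; simp
        · intro e
          have h1 : c = r⁻¹ := eq_inv_of_mul_eq_one_left e
          rw [h1] at hc
          have h2 : r * x * r⁻¹ = x := by
            rw [inv_eq_self_of_involution hr] at hc
            rw [hc.eq, mul_inv_cancel_right]
          rw [hrx] at h2
          have h3 := odd_orderOf h hy hx
          rw [orderOf_eq_two_iff_inv.2 ⟨hx1, h2⟩] at h3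
          exact Nat.not_odd_iff_even.2 even_two h3
      have hmove : (c * r) • o ≠ o := by
        intro e
        have hiT := involution_mem_T hi (mem_normT_iff.2 e)
        have h1 : x * (c * r) * x⁻¹ ∈ (T : Subgroup G) :=
          (Subgroup.mem_set_normalizer_iff.1 (twoStab_le hx) _).1 hiT
        have h2 := mul_mem hiT h1
        have h3 : c * r * (x * (c * r) * x⁻¹) = x⁻¹ * x⁻¹ := by
          calc c * r * (x * (c * r) * x⁻¹) = (c * r * x * (c * r)⁻¹) * ((c * r) ^ 2) * x⁻¹ := by
                rw [pow_two]; group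
            _ = x⁻¹ * x⁻¹ := by rw [hiinv, ← hi, pow_orderOf_eq_one, mul_one]
        rw [h3] at h2
        have h4 := twoStab_inf_T h hy (mul_mem (inv_mem hx) (inv_mem hx)) h2
        have h5 := odd_orderOf h hy hx
        rw [orderOf_eq_two_iff_inv.2 ⟨hx1, (mul_eq_one_iff_eq_inv.1 h4).trans (inv_inv x)⟩] at h5
        exact Nat.not_odd_iff_even.2 even_two h5
      have hfix : x • ((c * r) • o) = (c * r) • o := by
        have h9 : c * r * x⁻¹ * (c * r)⁻¹ = x := by
          have h8 := congrArg (·⁻¹) hiinv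
          simpa [mul_assoc] using h8
        rw [smul_smul, show x * (c * r) = c * r * x⁻¹ from (mul_inv_eq_iff_eq_mul.1 h9).symm, mul_smul]
        congr 1
        rw [inv_smul_eq_iff, hxo]
      exact ⟨⟨⟨(c * r) • o, hmove, hfix⟩, c * r, hi, rfl⟩, Subtype.ext (show c * r * r = c by
        rw [mul_assoc, mul_self_eq_one hr, mul_one])⟩
  -- counting the orbit of `o` under the centralizer
  set q := Nat.card (T : Subgroup G)
  have hq := four_le_card h
  have : Fintype Φ := Fintype.ofFinite _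
  have hcardA : Nat.card A = Nat.card Φ * (q - 1) := by
    rw [← Nat.card_eq_of_bijective f hf, Nat.card_sigma,
      Finset.sum_congr rfl (fun w _ => (card_swapping (isStronglyEmbedded h) (Ne.symm w.2.1)).trans
        (card_inv h)), Finset.sum_const, Finset.card_univ, ← Nat.card_eq_fintype_card, smul_eq_mul]
  have hstab : Nat.card (MulAction.stabilizer A o) = q - 1 := by
    rw [← card_twoStab h hy]
    exact Nat.card_congr
      { toFun := fun c => ⟨(c.1 : G), eq_mem_twoStab_of_commute h hy hx hx1 c.2 ((hA _).1 c.1.2)⟩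
        invFun := fun d => ⟨⟨d.1, (hA _).2 (commute_twoStab h hy d.2 hx)⟩, (mem_twoStab.1 d.2).1⟩
        left_inv := fun c => rfl
        right_inv := fun d => rfl }
  have horb : Nat.card (MulAction.orbit A o) = Nat.card Φ := by
    have h1 : Nat.card (MulAction.orbit A o) * Nat.card (MulAction.stabilizer A o) = Nat.card A := by
      rw [Nat.card_congr (MulAction.orbitEquivQuotientStabilizer A o)]
      exact (Subgroup.card_eq_card_quotient_mul_card_subgroup _).symm
    rw [hcardA, hstab] at h1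
    exact Nat.eq_of_mul_eq_mul_right (by omega) h1
  have hfixA : ∀ (c : A) (w : G ⧸ normT T), x • w = w → x • (c • w) = c • w := by
    intro c w hw
    show x • ((c : G) • w) = (c : G) • w
    rw [smul_smul, ← ((hA _).1 c.2).eq, mul_smul, hw]
  have horbfix : ∀ w ∈ MulAction.orbit A o, x • w = w := by
    rintro _ ⟨c, rfl⟩
    exact hfixA c o hxo
  let F := {w : G ⧸ normT T // x • w = w}
  have hcardF : Nat.card F = Nat.card Φ + 1 := by
    have e : F ≃ Option Φ :=
      { toFun := fun w => if e : w.1 = o then none else some ⟨w.1, e, w.2⟩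
        invFun := fun w => w.elim ⟨o, hxo⟩ (fun v => ⟨v.1, v.2.2⟩)
        left_inv := fun w => by
          by_cases e : w.1 = o
          · simp [e]; exact Subtype.ext e.symm
          · simp [e]
        right_inv := fun w => by
          cases w with
          | none => simp
          | some v => simp [v.2.1] }
    rw [Nat.card_congr e, Finite.card_option]
  -- some fixed point is outside the orbit
  obtain ⟨w, hwfix, hworb⟩ : ∃ w, x • w = w ∧ w ∉ MulAction.orbit A o := by
    by_contra hcon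
    push Not at hcon
    have hle : Nat.card F ≤ Nat.card (MulAction.orbit A o) :=
      Nat.card_le_card_of_injective (fun w => ⟨w.1, hcon w.1 w.2⟩)
        (fun a b e => Subtype.ext (congrArg (fun v : MulAction.orbit A o => v.1) e))
    omega
  have huniq : ∀ v, x • v = v → v ∉ MulAction.orbit A o → v = w := by
    intro v hv hvo
    let eO : {u : F // u.1 ∈ MulAction.orbit A o} ≃ MulAction.orbit A o :=
      { toFun := fun u => ⟨u.1.1, u.2⟩
        invFun := fun u => ⟨⟨u.1, horbfix u.1 u.2⟩, u.2⟩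
        left_inv := fun u => rfl
        right_inv := fun u => rfl }
    have hone : Nat.card {u : F // ¬ u.1 ∈ MulAction.orbit A o} = 1 := by
      have h1 := Nat.card_congr (Equiv.sumCompl (fun u : F => u.1 ∈ MulAction.orbit A o))
      rw [Nat.card_sum, Nat.card_congr eO, horb, hcardF] at h1
      omega
    exact congrArg (fun u : {u : F // ¬ u.1 ∈ MulAction.orbit A o} => u.1.1)
      ((Nat.card_eq_one_iff_unique.1 hone).1.elim ⟨⟨v, hv⟩, hvo⟩ ⟨⟨w, hwfix⟩, hworb⟩)
  have hwo : w ≠ o := fun e => hworb (by rw [e]; exact MulAction.mem_orbit_self o)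
  have hAw : ∀ c : A, c • w = w := by
    intro c
    apply huniq _ (hfixA c w hwfix)
    intro hc
    apply hworb
    have h1 := MulAction.mem_orbit_iff.1 hc
    obtain ⟨c', hc'⟩ := h1
    exact ⟨c⁻¹ * c', by
      show (c⁻¹ * c') • o = w
      rw [mul_smul, hc', inv_smul_smul]⟩
  obtain ⟨i, hi, hiw⟩ := exists_swap h hwo
  have hiw' : i • w = o := by rw [← hiw, smul_self_of_involution hi]
  have hix := hsw w hwo hwfix i hi hiw
  have hAo : ∀ c : A, c • o = o := by
    intro c
    have hc := inverts_centralizer h hy hx hx1 hi hix ((hA _).1 c.2)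
    have h1 : (c : G)⁻¹ • w = w := hAw c⁻¹
    have h2 : (c : G) • w = w := hAw c
    show (c : G) • o = o
    rw [← hiw', smul_smul, show (c : G) * i = i * (c : G)⁻¹ by
      rw [← hc, inv_eq_self_of_involution hi]
      calc (c : G) * i = (i * i) * c * i := by rw [mul_self_eq_one hi, one_mul]
        _ = i * (i * c * i) := by group, mul_smul, h1]
  have hone : Nat.card (MulAction.orbit A o) = 1 := by
    rw [Nat.card_eq_one_iff_unique]
    refine ⟨⟨?_⟩, ⟨⟨o, MulAction.mem_orbit_self o⟩⟩⟩
    rintro ⟨a, c, rfl⟩ ⟨b, c', rfl⟩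
    exact Subtype.ext ((hAo c).trans (hAo c').symm)
  rw [horb, Nat.card_eq_one_iff_unique] at hone
  by_cases hzo : z = o
  · exact Or.inl hzo
  · exact Or.inr (congrArg Subtype.val (hone.1.elim ⟨z, hzo, hz⟩ ⟨y, hy, (mem_twoStab.1 hx).2⟩))

theorem card_normT (h : Hyp T) (hy : y ≠ base T) :
    Nat.card (normT T) = Nat.card (T : Subgroup G) * (Nat.card (T : Subgroup G) - 1) := by
  rw [← card_twoStab h hy, mul_comm, ← Nat.card_prod]
  refine (Nat.card_congr (Equiv.ofBijective
    (fun p : twoStab T y × (T : Subgroup G) =>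
      (⟨p.1.1 * p.2.1, mul_mem (twoStab_le p.1.2) (Subgroup.le_normalizer p.2.2)⟩ : normT T))
    ⟨?_, ?_⟩)).symm
  · rintro ⟨d, t⟩ ⟨d', t'⟩ e
    have e' : d.1 * t.1 = d'.1 * t'.1 := congrArg Subtype.val e
    have h1 : d'.1⁻¹ * d.1 = t'.1 * t.1⁻¹ := by
      calc d'.1⁻¹ * d.1 = d'.1⁻¹ * (d.1 * t.1) * t.1⁻¹ := by group
        _ = t'.1 * t.1⁻¹ := by rw [e']; group
    have h2 := twoStab_inf_T h hy (mul_mem (inv_mem d'.2) d.2)
      (h1 ▸ mul_mem t'.2 (inv_mem t.2))
    have h3 : d.1 = d'.1 := (inv_mul_eq_one.1 h2).symm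
    rw [h3] at e'
    exact Prod.ext (Subtype.ext h3) (Subtype.ext (mul_left_cancel e'))
  · rintro ⟨g, hg⟩
    obtain ⟨d, hd, t, ht, rfl⟩ := decomp h hy hg
    exact ⟨(⟨d, hd⟩, ⟨t, ht⟩), rfl⟩

theorem exists_ne_base (h : Hyp T) : ∃ y : G ⧸ normT T, y ≠ base T := by
  obtain ⟨u, hu, huH⟩ := exists_involution_notMem (isStronglyEmbedded h)
  exact ⟨u • base T, fun e => huH (mem_normT_iff.2 e)⟩

/-- The Sylow subgroup acts regularly on the points other than its own. -/
theorem T_regular (h : Hyp T) {a b : G ⧸ normT T} (ha : a ≠ base T) (hb : b ≠ base T) :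
    ∃! t : G, t ∈ T ∧ t • a = b := by
  classical
  set o := base T with ho
  set q := Nat.card (T : Subgroup G) with hq'
  have hq := four_le_card h
  let X := {w : G ⧸ normT T // w ≠ o}
  have : Fintype X := Fintype.ofFinite _
  -- an injection of the nontrivial two point stabilisers into the elements outside `T`
  have hle : Nat.card X * (q - 2) ≤ q * (q - 2) := by
    let P := Σ w : X, {d : twoStab T w.1 // d ≠ 1}
    let f : P → {g : normT T // (g : G) ∉ (T : Subgroup G)} := fun p =>
      ⟨⟨p.2.1.1, twoStab_le p.2.1.2⟩, fun hT => p.2.2 (Subtype.ext (twoStab_inf_T h p.1.2 p.2.1.2 hT))⟩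
    have hf : Function.Injective f := by
      rintro ⟨⟨w, hw⟩, ⟨d, hd⟩, hd1⟩ ⟨⟨w', hw'⟩, ⟨d', hd'⟩, hd1'⟩ e
      obtain rfl : d = d' := congrArg (fun g : {g : normT T // (g : G) ∉ (T : Subgroup G)} =>
        ((g.1 : normT T) : G)) e
      obtain rfl : w = w' := by
        rcases fixed_pair h hw' hd' (fun e => hd1' (Subtype.ext e)) (mem_twoStab.1 hd).2 with e' | e'
        · exact absurd e' hw
        · exact e'
      rfl
    have h1 := Nat.card_le_card_of_injective f hf
    have hP : Nat.card P = Nat.card X * (q - 2) := by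
      rw [Nat.card_sigma, Finset.sum_congr rfl (fun w _ => ?_), Finset.sum_const, Finset.card_univ,
        ← Nat.card_eq_fintype_card, smul_eq_mul]
      have := Fintype.ofFinite (twoStab T w.1)
      rw [Nat.card_eq_fintype_card, Fintype.card_subtype_compl, Fintype.card_subtype_eq,
        ← Nat.card_eq_fintype_card, card_twoStab h w.2]
      omega
    have hR : Nat.card {g : normT T // (g : G) ∉ (T : Subgroup G)} = q * (q - 2) := by
      have h2 : Nat.card {g : normT T // (g : G) ∈ (T : Subgroup G)} = q :=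
        Nat.card_congr
          { toFun := fun g => ⟨g.1.1, g.2⟩
            invFun := fun t => ⟨⟨t.1, Subgroup.le_normalizer t.2⟩, t.2⟩
            left_inv := fun g => rfl
            right_inv := fun t => rfl }
      have := Fintype.ofFinite (normT T)
      rw [Nat.card_eq_fintype_card, Fintype.card_subtype_compl, ← Nat.card_eq_fintype_card,
        ← Nat.card_eq_fintype_card, h2, card_normT h ha, ← hq',
        show q - 2 = q - 1 - 1 from rfl, Nat.mul_sub q (q - 1) 1, mul_one]
    rw [hP, hR] at h1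
    exact h1
  have hXle : Nat.card X ≤ q := Nat.le_of_mul_le_mul_right hle (by omega)
  have hto : ∀ t ∈ (T : Subgroup G), t • o = o := fun t ht =>
    mem_normT_iff.1 (Subgroup.le_normalizer ht)
  let g : ↥(T : Subgroup G) → X := fun t => ⟨t.1 • a, fun e => ha (by
    rw [← inv_smul_smul t.1 a, e]; exact hto _ (inv_mem t.2))⟩
  have hg : Function.Injective g := by
    intro s t e
    have h1 : (t.1⁻¹ * s.1) • a = a := by
      rw [mul_smul, show s.1 • a = t.1 • a from congrArg Subtype.val e, inv_smul_smul]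
    have h2 := twoStab_inf_T h ha (mem_twoStab.2 ⟨hto _ (mul_mem (inv_mem t.2) s.2), h1⟩)
      (mul_mem (inv_mem t.2) s.2)
    exact Subtype.ext (inv_mul_eq_one.1 h2).symm
  obtain ⟨t, ht⟩ := (hg.bijective_of_nat_card_le hXle).2 ⟨b, hb⟩
  refine ⟨t.1, ⟨t.2, congrArg Subtype.val ht⟩, ?_⟩
  rintro s ⟨hs, hsb⟩
  exact congrArg Subtype.val (hg (a₁ := ⟨s, hs⟩) (a₂ := t)
    (Subtype.ext (hsb.trans (congrArg Subtype.val ht).symm)))

theorem triply_fixed (h : Hyp T) {g : G} {x₁ x₂ x₃ : G ⧸ normT T} (h12 : x₁ ≠ x₂) (h13 : x₁ ≠ x₃)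
    (h23 : x₂ ≠ x₃) (f1 : g • x₁ = x₁) (f2 : g • x₂ = x₂) (f3 : g • x₃ = x₃) : g = 1 := by
  obtain ⟨c, rfl⟩ := QuotientGroup.mk_surjective x₁
  have he : c⁻¹ • (c : G ⧸ normT T) = base T := by
    show ((c⁻¹ * c : G) : G ⧸ normT T) = _
    rw [inv_mul_cancel]
  have conj : ∀ w : G ⧸ normT T, g • w = w → (c⁻¹ * g * c) • (c⁻¹ • w) = c⁻¹ • w := by
    intro w hw
    rw [smul_smul, mul_inv_cancel_right, mul_smul, hw]
  have k1 := conj _ f1
  rw [he] at k1
  have n2 : c⁻¹ • x₂ ≠ base T := fun e => h12 (smul_left_cancel c⁻¹ (he.trans e.symm))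
  have n3 : c⁻¹ • x₃ ≠ base T := fun e => h13 (smul_left_cancel c⁻¹ (he.trans e.symm))
  by_contra hg
  rcases fixed_pair h n2 (mem_twoStab.2 ⟨k1, conj _ f2⟩)
    (fun e => hg (conj_eq_one_iff.1 (show c⁻¹ * g * (c⁻¹)⁻¹ = 1 by rwa [inv_inv])))
    (conj _ f3) with e | e
  · exact n3 e
  · exact h23 (smul_left_cancel c⁻¹ e).symm

/-- The two point stabiliser is regular on the remaining points. -/
theorem twoStab_regular (h : Hyp T) (hy : y ≠ base T) {a b : G ⧸ normT T} (ha : a ≠ base T)
    (ha' : a ≠ y) (hb : b ≠ base T) (hb' : b ≠ y) : ∃ d ∈ twoStab T y, d • a = b := by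
  classical
  let Z := {w : G ⧸ normT T // w ≠ base T ∧ w ≠ y}
  have moved : ∀ d ∈ twoStab T y, d • a ≠ base T ∧ d • a ≠ y := by
    intro d hd
    obtain ⟨h1, h2⟩ := mem_twoStab.1 hd
    exact ⟨fun e => ha (smul_left_cancel d (e.trans h1.symm)),
      fun e => ha' (smul_left_cancel d (e.trans h2.symm))⟩
  let g : twoStab T y → Z := fun d => ⟨d.1 • a, moved d.1 d.2⟩
  have hg : Function.Injective g := by
    intro d e hde
    have h1 : (e.1⁻¹ * d.1) • a = a := by
      rw [mul_smul, show d.1 • a = e.1 • a from congrArg Subtype.val hde, inv_smul_smul]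
    have h2 := mem_twoStab.1 (mul_mem (inv_mem e.2) d.2)
    exact Subtype.ext (inv_mul_eq_one.1
      (triply_fixed h (Ne.symm hy) (Ne.symm ha) (Ne.symm ha') h2.1 h2.2 h1)).symm
  have hcard : Nat.card Z ≤ Nat.card (T : Subgroup G) - 1 := by
    let f : Option Z → ↥(T : Subgroup G) := fun w =>
      ⟨(T_regular h hy (show (w.elim y (fun v => v.1)) ≠ base T by
        cases w with
        | none => exact hy
        | some v => exact v.2.1)).choose,
       (T_regular h hy (show (w.elim y (fun v => v.1)) ≠ base T by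
        cases w with
        | none => exact hy
        | some v => exact v.2.1)).choose_spec.1.1⟩
    have hf : ∀ w, (f w).1 • y = w.elim y (fun v => v.1) := fun w =>
      (T_regular h hy (show (w.elim y (fun v => v.1)) ≠ base T by
        cases w with
        | none => exact hy
        | some v => exact v.2.1)).choose_spec.1.2
    have hinj : Function.Injective f := by
      intro v w e
      have h1 := (hf v).symm.trans ((congrArg (fun t : (T : Subgroup G) => t.1 • y) e).trans (hf w))
      cases v with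
      | none => cases w with
        | none => rfl
        | some w => exact absurd h1.symm w.2.2
      | some v => cases w with
        | none => exact absurd h1 v.2.2
        | some w => exact congrArg some (Subtype.ext h1)
    have := Nat.card_le_card_of_injective f hinj
    rw [Finite.card_option] at this
    omega
  obtain ⟨d, hd⟩ := (hg.bijective_of_nat_card_le (by rw [card_twoStab h hy]; exact hcard)).2
    ⟨b, hb, hb'⟩
  exact ⟨d.1, d.2, congrArg Subtype.val hd⟩

theorem to_base_and (h : Hyp T) (hy : y ≠ base T) {a b c : G ⧸ normT T} (hab : a ≠ b) (hac : a ≠ c)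
    (hbc : b ≠ c) : ∃ g : G, g • a = base T ∧ g • b = y ∧ g • c ≠ base T ∧ g • c ≠ y := by
  obtain ⟨p, rfl⟩ := QuotientGroup.mk_surjective a
  have he : p⁻¹ • (p : G ⧸ normT T) = base T := by
    show ((p⁻¹ * p : G) : G ⧸ normT T) = _
    rw [inv_mul_cancel]
  obtain ⟨t, ⟨htT, ht⟩, -⟩ := T_regular h
    (a := p⁻¹ • b) (fun e => hab (smul_left_cancel p⁻¹ (he.trans e.symm))) hy
  have hto : t • base T = base T := mem_normT_iff.1 (Subgroup.le_normalizer htT)
  refine ⟨t * p⁻¹, by rw [mul_smul, he, hto], by rw [mul_smul, ht], ?_, ?_⟩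
  · intro e
    exact hac (smul_left_cancel (t * p⁻¹) (by rw [e, mul_smul, he, hto]))
  · intro e
    exact hbc (smul_left_cancel (t * p⁻¹) (by rw [e, mul_smul, ht]))

theorem triply_transitive (h : Hyp T) (x₁ x₂ x₃ y₁ y₂ y₃ : G ⧸ normT T) (a12 : x₁ ≠ x₂)
    (a13 : x₁ ≠ x₃) (a23 : x₂ ≠ x₃) (b12 : y₁ ≠ y₂) (b13 : y₁ ≠ y₃) (b23 : y₂ ≠ y₃) :
    ∃ g : G, g • x₁ = y₁ ∧ g • x₂ = y₂ ∧ g • x₃ = y₃ := by
  obtain ⟨w, hw⟩ := exists_ne_base h
  obtain ⟨g, g1, g2, g3, g4⟩ := to_base_and h hw a12 a13 a23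
  obtain ⟨k, k1, k2, k3, k4⟩ := to_base_and h hw b12 b13 b23
  obtain ⟨d, hd, hd'⟩ := twoStab_regular h hw g3 g4 k3 k4
  obtain ⟨d1, d2⟩ := mem_twoStab.1 hd
  refine ⟨k⁻¹ * (d * g), ?_, ?_, ?_⟩
  · rw [mul_smul, mul_smul, g1, d1, ← k1, inv_smul_smul]
  · rw [mul_smul, mul_smul, g2, d2, ← k2, inv_smul_smul]
  · rw [mul_smul, mul_smul, hd', inv_smul_smul]

theorem twoStab_coset (u : G) :
    normT T ⊓ (normT T).map (MulAut.conj u).toMonoidHom = twoStab T ((u : G) : G ⧸ normT T) := by
  ext d
  rw [mem_inf_map_conj_iff, mem_twoStab]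

theorem coset_ne_base {u : G} (hu : u ∉ normT T) : ((u : G) : G ⧸ normT T) ≠ base T := by
  intro e
  rw [QuotientGroup.eq] at e
  exact hu (by simpa using e)

end CfsgLib.StrongEmbedding.ElementaryCentralizers
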