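import Mathlib
import Cfsg.Agent.Classical.SLBasic
import Cfsg.Agent.Lib.StrongEmbedding.ElementaryCentralizers

/-!
Recognition of `PSL(2, F)`, `F` of characteristic 2, from a group acting on a projective line by
translations, scalings and an inversion; application to groups with elementary abelian involution
centralizers.
-/

set_option autoImplicit false

namespace CfsgLib.StrongEmbedding.PSLTwo

open scoped MatrixGroups
open OnePoint

section Moebius

variable (F : Type) [Field F] [DecidableEq F]

/-- The permutation action of `SL(2, F)` on the projective line. -/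
noncomputable def moebius :
    Matrix.SpecialLinearGroup (Fin 2) F →* Equiv.Perm (OnePoint F) :=
  (MulAction.toPermHom (GL (Fin 2) F) (OnePoint F)).comp Matrix.SpecialLinearGroup.toGL

variable {F}

theorem moebius_infty (M : Matrix.SpecialLinearGroup (Fin 2) F) :
    moebius F M ∞ = if (M : Matrix (Fin 2) (Fin 2) F) 1 0 = 0 then ∞ else
      (((M : Matrix (Fin 2) (Fin 2) F) 0 0 / (M : Matrix (Fin 2) (Fin 2) F) 1 0 : F) : OnePoint F) := by
  show (Matrix.SpecialLinearGroup.toGL M) • (∞ : OnePoint F) = _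
  rw [smul_infty_eq_ite]
  rfl

theorem moebius_coe (M : Matrix.SpecialLinearGroup (Fin 2) F) (x : F) :
    moebius F M (x : OnePoint F) =
      if (M : Matrix (Fin 2) (Fin 2) F) 1 0 * x + (M : Matrix (Fin 2) (Fin 2) F) 1 1 = 0 then ∞ else
      ((((M : Matrix (Fin 2) (Fin 2) F) 0 0 * x + (M : Matrix (Fin 2) (Fin 2) F) 0 1) /
        ((M : Matrix (Fin 2) (Fin 2) F) 1 0 * x + (M : Matrix (Fin 2) (Fin 2) F) 1 1) : F) : OnePoint F) := by
  show (Matrix.SpecialLinearGroup.toGL M) • (x : OnePoint F) = _
  rw [smul_some_eq_ite]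
  rfl

theorem translation_mem (a : F) (f : Equiv.Perm (OnePoint F)) (hinf : f ∞ = ∞)
    (hx : ∀ x : F, f (x : OnePoint F) = ((a + x : F) : OnePoint F)) : f ∈ (moebius F).range := by
  refine ⟨⟨!![1, a; 0, 1], by simp [Matrix.det_fin_two]⟩, Equiv.ext fun z => ?_⟩
  cases z with
  | infty => rw [hinf]; refine (moebius_infty _).trans ?_; simp
  | coe x => rw [hx]; refine (moebius_coe _ x).trans ?_; simp [add_comm]

theorem scaling_mem (w : F) (hw : w ≠ 0) (f : Equiv.Perm (OnePoint F)) (hinf : f ∞ = ∞)
    (hx : ∀ x : F, f (x : OnePoint F) = ((w * w * x : F) : OnePoint F)) : f ∈ (moebius F).range := by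
  refine ⟨⟨!![w, 0; 0, w⁻¹], by simp [Matrix.det_fin_two, hw]⟩, Equiv.ext fun z => ?_⟩
  cases z with
  | infty => rw [hinf]; refine (moebius_infty _).trans ?_; simp
  | coe x => rw [hx]; refine (moebius_coe _ x).trans ?_; simp [hw]; ring

theorem inversion_mem [CharP F 2] (w : F) (hw : w ≠ 0) (f : Equiv.Perm (OnePoint F))
    (hinf : f ∞ = ((0 : F) : OnePoint F)) (h0 : f ((0 : F) : OnePoint F) = ∞)
    (hx : ∀ x : F, x ≠ 0 → f (x : OnePoint F) = ((w * w / x : F) : OnePoint F)) :
    f ∈ (moebius F).range := by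
  refine ⟨⟨!![0, w; w⁻¹, 0], by
    simp [Matrix.det_fin_two, hw, CharTwo.neg_eq]⟩, Equiv.ext fun z => ?_⟩
  cases z with
  | infty => rw [hinf]; refine (moebius_infty _).trans ?_; simp [hw]
  | coe x =>
    refine (moebius_coe _ x).trans ?_
    by_cases hx0 : x = 0
    · subst hx0; rw [h0]; simp
    · rw [hx x hx0]
      simp [hw, hx0]
      field_simp

theorem card_sl_two [Fintype F] :
    Nat.card (Matrix.SpecialLinearGroup (Fin 2) F) =
      (Fintype.card F + 1) * (Fintype.card F * (Fintype.card F - 1)) := by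
  have h := Cfsg.Agent.Classical.card_sl_mul (F := F) 2 (by norm_num)
  obtain ⟨b, hb⟩ : ∃ b, Fintype.card F = b + 2 :=
    ⟨Fintype.card F - 2, by have := Fintype.one_lt_card (α := F); omega⟩
  rw [hb] at h ⊢
  rw [Fin.prod_univ_two] at h
  simp only [Fin.val_zero, Fin.val_one, pow_zero, pow_one, show b + 2 - 1 = b + 1 from rfl] at h ⊢
  have e1 : (b + 2) ^ 2 - 1 = (b + 1) * (b + 3) := by
    rw [Nat.sub_eq_iff_eq_add (Nat.one_le_pow _ _ (by omega))]; ring
  have e2 : (b + 2) ^ 2 - (b + 2) = (b + 2) * (b + 1) := by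
    rw [Nat.sub_eq_iff_eq_add (Nat.le_self_pow two_ne_zero _)]; ring
  rw [e1, e2] at h
  apply Nat.eq_of_mul_eq_mul_left (Nat.succ_pos b)
  show (b + 1) * _ = (b + 1) * _
  rw [h]; ring

theorem center_sl_two_eq_bot [Fintype F] [CharP F 2] :
    Subgroup.center (Matrix.SpecialLinearGroup (Fin 2) F) = ⊥ := by
  apply Subgroup.eq_bot_of_card_eq
  rw [Cfsg.Agent.Classical.card_center_sl 2 (by norm_num)]
  obtain ⟨j, -, hj⟩ := FiniteField.card F 2
  rw [hj]
  have h1 : (2 : ℕ) ^ (j : ℕ) = 2 * 2 ^ ((j : ℕ) - 1) := by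
    rw [← pow_succ', Nat.sub_add_cancel j.pos]
  have h2 : 0 < 2 ^ ((j : ℕ) - 1) := pow_pos two_pos _
  refine Nat.coprime_iff_gcd_eq_one.1 ((Nat.Prime.coprime_iff_not_dvd Nat.prime_two).2 ?_)
  omega

end Moebius

/-- A group with a faithful action which is given by Moebius transformations and has the order of
`SL(2, F)` is isomorphic to `PSL(2, F)`, in characteristic 2. -/
theorem mulEquiv_psl {F : Type} [Field F] [Fintype F] [DecidableEq F] [CharP F 2] {G : Type*}
    [Group G] [Finite G] (π : G →* Equiv.Perm (OnePoint F)) (hinj : Function.Injective π)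
    (hle : π.range ≤ (moebius F).range)
    (hcard : Nat.card G = Nat.card (Matrix.SpecialLinearGroup (Fin 2) F)) :
    Nonempty (G ≃* Matrix.ProjectiveSpecialLinearGroup (Fin 2) F) := by
  have h1 : Nat.card π.range = Nat.card G :=
    (Nat.card_congr (MonoidHom.ofInjective hinj).toEquiv).symm
  have h2 : Nat.card (moebius F).range ≤ Nat.card (Matrix.SpecialLinearGroup (Fin 2) F) :=
    Nat.card_le_card_of_surjective _ (moebius F).rangeRestrict_surjective
  have heq : π.range = (moebius F).range := Subgroup.eq_of_le_of_card_ge hle (by omega)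
  have hb : Function.Bijective (moebius F).rangeRestrict :=
    (moebius F).rangeRestrict_surjective.bijective_of_nat_card_le (by rw [← heq, h1, hcard])
  let e1 : G ≃* Matrix.SpecialLinearGroup (Fin 2) F :=
    (MonoidHom.ofInjective hinj).trans ((MulEquiv.subgroupCongr heq).trans
      (MulEquiv.ofBijective _ hb).symm)
  have hb2 : Function.Bijective
      (QuotientGroup.mk' (Subgroup.center (Matrix.SpecialLinearGroup (Fin 2) F))) :=
    ⟨by rw [← MonoidHom.ker_eq_bot_iff, QuotientGroup.ker_mk', center_sl_two_eq_bot],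
      QuotientGroup.mk'_surjective _⟩
  exact ⟨e1.trans (MulEquiv.ofBijective _ hb2)⟩

open CfsgLib.Involutions CfsgLib.StrongEmbedding CfsgLib.StrongEmbedding.ElementaryCentralizers

universe u

variable {G : Type u} [Group G] [Finite G] {T : Sylow 2 G}

/-- The Sylow subgroup as the additive group of a field, scaled by the two point stabiliser. -/
theorem exists_field_model (h : Hyp T) {y : G ⧸ normT T} (hy : y ≠ base T) :
    ∃ (F : Type) (_ : Field F) (_ : Fintype F) (_ : CharP F 2) (τ : F → G),
      Function.Injective τ ∧ (∀ x, τ x ∈ (T : Subgroup G)) ∧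
      (∀ t ∈ (T : Subgroup G), ∃ x, τ x = t) ∧ (∀ x z, τ (x + z) = τ x * τ z) ∧
      (∀ d ∈ twoStab T y, ∃ c : F, c ≠ 0 ∧ ∀ x, d * τ x * d⁻¹ = τ (c * x)) ∧
      (∀ c : F, c ≠ 0 → ∃ d ∈ twoStab T y, ∀ x, d * τ x * d⁻¹ = τ (c * x)) := by
  classical
  let : CommGroup (T : Subgroup G) :=
    { (inferInstance : Group (T : Subgroup G)) with
      mul_comm := fun a b => Subtype.ext (comm_T h a.2 b.2).eq }
  set D := twoStab T y
  have hnorm : ∀ d : D, ∀ t : (T : Subgroup G), (d : G) * t * (d : G)⁻¹ ∈ (T : Subgroup G) :=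
    fun d t => (Subgroup.mem_set_normalizer_iff.1 (twoStab_le d.2) t).1 t.2
  let conjD : D →* AddMonoid.End (Additive (T : Subgroup G)) :=
    { toFun := fun d =>
        { toFun := fun t => Additive.ofMul
            (⟨(d : G) * (Additive.toMul t : (T : Subgroup G)) * (d : G)⁻¹, hnorm d _⟩ : (T : Subgroup G))
          map_zero' := by
            apply congrArg Additive.ofMul
            exact Subtype.ext (by simp)
          map_add' := fun s t => by
            show _ = Additive.ofMul (_ * _)
            apply congrArg Additive.ofMul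
            exact Subtype.ext (by simp [mul_assoc]) }
      map_one' := by
        refine DFunLike.ext _ _ fun t => ?_
        show Additive.ofMul _ = t
        apply Additive.toMul.injective
        exact Subtype.ext (by simp)
      map_mul' := fun d e => by
        refine DFunLike.ext _ _ fun t => ?_
        apply Additive.toMul.injective
        apply Subtype.ext
        show ((d * e : D) : G) * ((Additive.toMul t : (T : Subgroup G)) : G) * ((d * e : D) : G)⁻¹ =
          (d : G) * ((e : G) * ((Additive.toMul t : (T : Subgroup G)) : G) * (e : G)⁻¹) * (d : G)⁻¹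
        simp [mul_assoc] }
  let R : Subring (AddMonoid.End (Additive (T : Subgroup G))) := Subring.closure (Set.range conjD)
  have hcommR : IsMulCommutative R := Subring.isMulCommutative_closure (by
    rintro _ ⟨d, rfl⟩ _ ⟨e, rfl⟩
    rw [← map_mul, ← map_mul, show d * e = e * d from Subtype.ext (commute_twoStab h hy d.2 e.2).eq])
  let : CommRing R :=
    { (inferInstance : Ring R) with mul_comm := fun a b => hcommR.is_comm.comm a b }
  obtain ⟨s, hs, hsx⟩ := exists_involution_fixing (isStronglyEmbedded h) (base T)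
  have hsT := involution_mem_T hs (mem_normT_iff.2 hsx)
  let e : Additive (T : Subgroup G) := Additive.ofMul ⟨s, hsT⟩
  have he0 : e ≠ 0 := fun e0 =>
    ne_one_of_involution hs (congrArg (fun t : Additive (T : Subgroup G) =>
      ((Additive.toMul t : (T : Subgroup G)) : G)) e0)
  have htrans : ∀ a : Additive (T : Subgroup G), a ≠ 0 → ∃ d : D, conjD d e = a := by
    intro a ha
    have ha1 : ((Additive.toMul a : (T : Subgroup G)) : G) ≠ 1 := fun e1 =>
      ha (Additive.toMul.injective (Subtype.ext e1))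
    obtain ⟨d, hdx, hdy, hd⟩ := two_point_transitive (isStronglyEmbedded h) (Ne.symm hy) hs hsx
      (orderOf_of_mem h (Additive.toMul a).2 ha1)
      (mem_normT_iff.1 (Subgroup.le_normalizer (Additive.toMul a).2))
    exact ⟨⟨d, mem_twoStab.2 ⟨hdx, hdy⟩⟩, Additive.toMul.injective (Subtype.ext hd)⟩
  let ev : R → Additive (T : Subgroup G) := fun r => (r : AddMonoid.End _) e
  have hDR : ∀ d : D, conjD d ∈ R := fun d => Subring.subset_closure ⟨d, rfl⟩
  have hsurj : Function.Surjective ev := by
    intro a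
    by_cases ha : a = 0
    · exact ⟨0, by subst ha; rfl⟩
    · obtain ⟨d, hd⟩ := htrans a ha
      exact ⟨⟨conjD d, hDR d⟩, hd⟩
  have hinj : Function.Injective ev := by
    intro r r' hrr
    apply Subtype.ext
    refine DFunLike.ext _ _ fun a => ?_
    by_cases ha : a = 0
    · rw [ha, map_zero, map_zero]
    · obtain ⟨d, rfl⟩ := htrans a ha
      have h1 : ∀ q : R, (q : AddMonoid.End _) (conjD d e) = conjD d ((q : AddMonoid.End _) e) := by
        intro q
        have := congrArg Subtype.val (mul_comm q ⟨conjD d, hDR d⟩)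
        exact DFunLike.congr_fun this e
      rw [h1, h1]
      exact congrArg (conjD d) hrr
  have hne : ∀ r : R, r ≠ 0 → ∃ d : D, conjD d = r.1 := by
    intro r hr
    obtain ⟨d, hd⟩ := htrans (ev r) (fun e0 => hr (hinj (e0.trans (show ev 0 = 0 from rfl).symm)))
    exact ⟨d, congrArg Subtype.val (hinj (a₁ := ⟨conjD d, hDR d⟩) (a₂ := r) hd)⟩
  have hfield : IsField R :=
    { exists_pair_ne := ⟨0, 1, fun e0 => he0 (congrArg ev e0).symm⟩
      mul_comm := mul_comm
      mul_inv_cancel := fun {r} hr => by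
        obtain ⟨d, hd⟩ := hne r hr
        refine ⟨⟨conjD d⁻¹, hDR _⟩, Subtype.ext ?_⟩
        show r.1 * conjD d⁻¹ = 1
        rw [← hd, ← map_mul, mul_inv_cancel, map_one] }
  let : Field R := hfield.toField
  have : Finite R := Finite.of_injective ev hinj
  let : Fintype R := Fintype.ofFinite R
  have : Fact (Nat.Prime 2) := ⟨Nat.prime_two⟩
  obtain ⟨k, hk⟩ := T.isPGroup'.exists_card_eq
  have hk0 : k ≠ 0 := by
    rintro rfl
    have := four_le_card h
    omega
  let φ : GaloisField 2 k ≃+* R := by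
    letI := Fintype.ofFinite (GaloisField 2 k)
    refine FiniteField.ringEquivOfCardEq ?_
    rw [← Nat.card_eq_fintype_card, ← Nat.card_eq_fintype_card, GaloisField.card 2 k hk0, ← hk,
      Nat.card_eq_of_bijective ev ⟨hinj, hsurj⟩]
    rfl
  let τ : GaloisField 2 k → G := fun x => ((Additive.toMul (ev (φ x)) : (T : Subgroup G)) : G)
  have key : ∀ (d : D) (x : GaloisField 2 k),
      (d : G) * τ x * (d : G)⁻¹ = τ (φ.symm ⟨conjD d, hDR d⟩ * x) := by
    intro d x
    show _ = ((Additive.toMul (ev (φ (φ.symm ⟨conjD d, hDR d⟩ * x))) : (T : Subgroup G)) : G)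
    rw [map_mul, φ.apply_symm_apply]
    rfl
  refine ⟨GaloisField 2 k, inferInstance, Fintype.ofFinite _, inferInstance, τ, ?_, ?_, ?_, ?_, ?_, ?_⟩
  · intro a b hab
    exact φ.injective (hinj (Additive.toMul.injective (Subtype.ext hab)))
  · intro x
    exact (Additive.toMul (ev (φ x))).2
  · intro t ht
    obtain ⟨r, hr⟩ := hsurj (Additive.ofMul ⟨t, ht⟩)
    refine ⟨φ.symm r, ?_⟩
    show ((Additive.toMul (ev (φ (φ.symm r))) : (T : Subgroup G)) : G) = t
    rw [φ.apply_symm_apply, hr]
    rfl
  · intro x z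
    show ((Additive.toMul (ev (φ (x + z))) : (T : Subgroup G)) : G) = _
    rw [map_add]
    rfl
  · intro d hd
    refine ⟨φ.symm ⟨conjD ⟨d, hd⟩, hDR _⟩, ?_, key ⟨d, hd⟩⟩
    intro h0
    rw [map_eq_zero_iff φ.symm φ.symm.injective] at h0
    have h1 : conjD ⟨d, hd⟩ * conjD (⟨d, hd⟩⁻¹) = 1 := by rw [← map_mul, mul_inv_cancel, map_one]
    rw [show conjD ⟨d, hd⟩ = 0 from congrArg Subtype.val h0, zero_mul] at h1
    exact he0 (DFunLike.congr_fun h1 e).symm
  · intro c hc
    obtain ⟨d, hd⟩ := hne (φ c) (fun e0 => hc (φ.injective (e0.trans (map_zero φ).symm)))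
    refine ⟨d.1, d.2, fun x => ?_⟩
    rw [key d x, show (⟨conjD d, hDR d⟩ : R) = φ c from Subtype.ext hd, φ.symm_apply_apply]

/-- The recognition theorem. -/
theorem exists_psl (h : Hyp T) :
    ∃ (F : Type) (_ : Field F) (_ : Fintype F), Fintype.card F = Nat.card (T : Subgroup G) ∧
      Nonempty (G ≃* Matrix.ProjectiveSpecialLinearGroup (Fin 2) F) := by
  classical
  obtain ⟨y, hy⟩ := exists_ne_base h
  obtain ⟨u, hu, huy⟩ := exists_swap h hy
  have huy' : u • y = base T := by rw [← huy, smul_self_of_involution hu]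
  obtain ⟨F, _, _, _, τ, τinj, τT, τsurj, τadd, τD, τF⟩ := exists_field_model h hy
  have hτ0 : τ 0 = 1 := by
    have := τadd 0 0
    rw [add_zero] at this
    exact left_eq_mul.1 this
  have hTo : ∀ t ∈ (T : Subgroup G), t • base T = base T := fun t ht =>
    mem_normT_iff.1 (Subgroup.le_normalizer ht)
  have hne : ∀ x : F, τ x • y ≠ base T := fun x e => hy (by
    rw [← inv_smul_smul (τ x) y, e]; exact hTo _ (inv_mem (τT x)))
  let p : OnePoint F → G ⧸ normT T := fun z => z.elim (base T) (fun x => τ x • y)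
  have hpinf : p ∞ = base T := rfl
  have hpcoe : ∀ x : F, p (x : OnePoint F) = τ x • y := fun x => rfl
  have hpinj : Function.Injective p := by
    intro a b e
    cases a with
    | infty => cases b with
      | infty => rfl
      | coe b => exact absurd e.symm (hne b)
    | coe a => cases b with
      | infty => exact absurd e (hne a)
      | coe b =>
        obtain ⟨t, -, huniq⟩ := T_regular h hy (hne b)
        rw [τinj ((huniq _ ⟨τT a, e⟩).trans (huniq _ ⟨τT b, rfl⟩).symm)]
  have hpsurj : Function.Surjective p := by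
    intro z
    by_cases hz : z = base T
    · exact ⟨∞, hz.symm⟩
    · obtain ⟨t, ⟨htT, ht⟩, -⟩ := T_regular h hy hz
      obtain ⟨x, hx⟩ := τsurj t htT
      exact ⟨(x : OnePoint F), by rw [hpcoe, hx, ht]⟩
  let pe : OnePoint F ≃ G ⧸ normT T := Equiv.ofBijective p ⟨hpinj, hpsurj⟩
  let π : G →* Equiv.Perm (OnePoint F) :=
    (pe.symm.permCongrHom.toMonoidHom).comp (MulAction.toPermHom G (G ⧸ normT T))
  have hπ : ∀ (g : G) (a b : OnePoint F), g • p a = p b → π g a = b := by
    intro g a b e
    show pe.symm (g • pe a) = b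
    exact pe.symm_apply_eq.2 e
  have hπinj : Function.Injective π := by
    rw [injective_iff_map_eq_one]
    intro g hg
    have hfix : ∀ a : OnePoint F, g • p a = p a := fun a => by
      have h1 : pe.symm (g • pe a) = a := by
        conv_rhs => rw [← Equiv.Perm.one_apply a, ← hg]
        rfl
      exact pe.symm_apply_eq.1 h1
    refine triply_fixed h (x₁ := p ∞) (x₂ := p ((0 : F) : OnePoint F)) (x₃ := p ((1 : F) : OnePoint F))
      (fun e => absurd (hpinj e) (OnePoint.infty_ne_coe 0))
      (fun e => absurd (hpinj e) (OnePoint.infty_ne_coe 1))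
      (fun e => absurd (hpinj e) (by simp)) (hfix _) (hfix _) (hfix _)
  have hT : ∀ t ∈ (T : Subgroup G), π t ∈ (moebius F).range := by
    intro t ht
    obtain ⟨a, rfl⟩ := τsurj t ht
    refine translation_mem a _ (hπ _ _ _ (hTo _ ht)) (fun x => hπ _ _ _ ?_)
    rw [hpcoe, hpcoe, smul_smul, τadd]
  have hD : ∀ d ∈ twoStab T y, π d ∈ (moebius F).range := by
    intro d hd
    obtain ⟨hdo, hdy⟩ := mem_twoStab.1 hd
    obtain ⟨c, hc, hdc⟩ := τD d hd
    obtain ⟨w, hw⟩ := FiniteField.isSquare_of_char_two (ringChar.eq F 2) c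
    refine scaling_mem w (fun e => hc (by rw [hw, e, mul_zero])) _ (hπ _ _ _ hdo)
      (fun x => hπ _ _ _ ?_)
    rw [hpcoe, hpcoe, ← hw, ← hdc, mul_smul, inv_smul_eq_iff.2 hdy.symm, mul_smul]
  have hu' : π u ∈ (moebius F).range := by
    obtain ⟨s, hs⟩ := hpsurj (u • p ((1 : F) : OnePoint F))
    cases s with
    | infty =>
      exfalso
      have h1 : p ((0 : F) : OnePoint F) = p ((1 : F) : OnePoint F) := by
        apply smul_left_cancel u
        rw [← hs, hpcoe, hτ0, one_smul, huy', hpinf]
      exact absurd (hpinj h1) (by simp)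
    | coe s =>
      have hs0 : s ≠ 0 := by
        rintro rfl
        have h1 : p ∞ = p ((1 : F) : OnePoint F) := by
          apply smul_left_cancel u
          rw [← hs, hpcoe, hτ0, one_smul, hpinf, huy]
        exact absurd (hpinj h1) (OnePoint.infty_ne_coe 1)
      obtain ⟨w, hw⟩ := FiniteField.isSquare_of_char_two (ringChar.eq F 2) s
      refine inversion_mem w (fun e => hs0 (by rw [hw, e, mul_zero])) _ (hπ _ _ _ ?_) (hπ _ _ _ ?_)
        (fun x hx => hπ _ _ _ ?_)
      · rw [hpcoe, hτ0, one_smul, hpinf, huy]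
      · rw [hpcoe, hτ0, one_smul, hpinf, huy']
      · obtain ⟨d, hd, hdx⟩ := τF x hx
        obtain ⟨-, hdy⟩ := mem_twoStab.1 hd
        have e1 : p (x : OnePoint F) = d • p ((1 : F) : OnePoint F) := by
          rw [hpcoe, hpcoe, ← mul_one x, ← hdx, mul_smul, inv_smul_eq_iff.2 hdy.symm, mul_smul]
        have e2 : u * d = d⁻¹ * u := by
          rw [← inverts h hy hu huy hd, inv_mul_cancel_right]
        rw [e1, smul_smul, e2, mul_smul, ← hs, hpcoe, hpcoe, ← hw]
        have e3 : d⁻¹ * τ s * d = τ (s / x) := by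
          have h2 := hdx (s / x)
          rw [mul_div_cancel₀ _ hx] at h2
          rw [← h2]; group
        rw [← e3, mul_smul, hdy, mul_smul]
  have hrange : π.range ≤ (moebius F).range := by
    rintro _ ⟨g, rfl⟩
    have hH : ∀ g : G, g • base T = base T → π g ∈ (moebius F).range := by
      intro g hg
      obtain ⟨d, hd, t, ht, rfl⟩ := decomp h hy (mem_normT_iff.2 hg)
      rw [map_mul]
      exact mul_mem (hD d hd) (hT t ht)
    by_cases hg : g • base T = base T
    · exact hH g hg
    · obtain ⟨t, ⟨htT, ht⟩, -⟩ := T_regular h hy hg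
      have h1 : (u⁻¹ * (t⁻¹ * g)) • base T = base T := by
        rw [mul_smul, mul_smul, ← ht, inv_smul_smul, inv_smul_eq_iff, huy]
      have h2 : g = t * (u * (u⁻¹ * (t⁻¹ * g))) := by group
      rw [h2, map_mul, map_mul π u]
      exact mul_mem (hT t htT) (mul_mem hu' (hH _ h1))
  have hcardF : Fintype.card F = Nat.card (T : Subgroup G) := by
    rw [← Nat.card_eq_fintype_card]
    exact Nat.card_eq_of_bijective (fun x => (⟨τ x, τT x⟩ : (T : Subgroup G)))
      ⟨fun a b e => τinj (congrArg Subtype.val e), fun t => by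
        obtain ⟨x, hx⟩ := τsurj t t.2
        exact ⟨x, Subtype.ext hx⟩⟩
  have hcardG : Nat.card G = Nat.card (Matrix.SpecialLinearGroup (Fin 2) F) := by
    rw [card_sl_two, hcardF, ← card_normT h hy, ← Subgroup.card_mul_index (normT T), mul_comm]
    congr 1
    rw [Subgroup.index, ← Nat.card_congr pe, show OnePoint F = Option F from rfl, Finite.card_option,
      Nat.card_eq_fintype_card, hcardF]
  exact ⟨F, inferInstance, inferInstance, hcardF, mulEquiv_psl π hπinj hrange hcardG⟩

end CfsgLib.StrongEmbedding.PSLTwo
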